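import Groth.Agent.H75.UH.Res
import Mathlib.Algebra.Algebra.Subalgebra.Lattice
import Mathlib.RingTheory.IntegralClosure.Algebra.Basic

/-!
The subalgebra of integral radicial elements; functoriality and closure under elementary steps.
-/

universe u

namespace Groth.Agent.H75.UH

variable {A B C : Type u} [CommRing A] [CommRing B] [CommRing C]

section Functoriality

/-- `URes` pushes forward along any ring map. -/
theorem URes.map {φ : A →+* B} {ψ : A →+* C} {i : B →+* C} (h : ∀ a, i (φ a) = ψ a)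
    {p : Ideal A} {b : B} (hb : URes φ p b) : URes ψ p (i b) := by
  obtain ⟨s, a, hs, hall⟩ := hb
  refine ⟨s, a, hs, fun q hq hqp => ?_⟩
  have hc : (q.comap i).comap φ = p := by
    rw [← hqp]; ext x; simp [h]
  have := hall (q.comap i) (Ideal.comap_isPrime i q) hc
  simpa [Ideal.mem_comap, h] using this

theorem UPI.map {φ : A →+* B} {ψ : A →+* C} {i : B →+* C} (h : ∀ a, i (φ a) = ψ a)
    {p : Ideal A} {b : B} (hb : UPI φ p b) : UPI ψ p (i b) := by
  rcases hb with hb | ⟨l, hl, hlp, k, hb⟩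
  · exact Or.inl (hb.map h)
  · exact Or.inr ⟨l, hl, hlp, k, by rw [← map_pow]; exact hb.map h⟩

/-- `URes` descends along maps with surjective `comap`. -/
theorem URes.of_map {φ : A →+* B} {ψ : A →+* C} {i : B →+* C} (h : ∀ a, i (φ a) = ψ a)
    (hi : Function.Surjective (PrimeSpectrum.comap i))
    {p : Ideal A} {b : B} (hb : URes ψ p (i b)) : URes φ p b := by
  obtain ⟨s, a, hs, hall⟩ := hb
  refine ⟨s, a, hs, fun q hq hqp => ?_⟩
  obtain ⟨Q, hQ⟩ := hi ⟨q, hq⟩
  obtain rfl : Q.asIdeal.comap i = q := congrArg PrimeSpectrum.asIdeal hQ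
  have hc : Q.asIdeal.comap ψ = p := by
    rw [← hqp]; ext x; simp [h]
  have := hall Q.asIdeal Q.isPrime hc
  simpa [Ideal.mem_comap, h] using this

theorem UPI.of_map {φ : A →+* B} {ψ : A →+* C} {i : B →+* C} (h : ∀ a, i (φ a) = ψ a)
    (hi : Function.Surjective (PrimeSpectrum.comap i))
    {p : Ideal A} {b : B} (hb : UPI ψ p (i b)) : UPI φ p b := by
  rcases hb with hb | ⟨l, hl, hlp, k, hb⟩
  · exact Or.inl (hb.of_map h hi)
  · rw [← map_pow] at hb
    exact Or.inr ⟨l, hl, hlp, k, hb.of_map h hi⟩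

/-- Change the base along `j : A → B`. -/
theorem URes.changeBase {ψ : A →+* C} {φ : B →+* C} {j : A →+* B} (h : ∀ a, φ (j a) = ψ a)
    {P : Ideal B} {c : C} (hc : URes ψ (P.comap j) c) : URes φ P c := by
  obtain ⟨s, a, hs, hall⟩ := hc
  refine ⟨j s, j a, hs, fun q hq hqP => ?_⟩
  have := hall q hq (by rw [← hqP]; ext x; simp [h])
  simpa [h] using this

theorem UPI.changeBase {ψ : A →+* C} {φ : B →+* C} {j : A →+* B} (h : ∀ a, φ (j a) = ψ a)
    {P : Ideal B} {c : C} (hc : UPI ψ (P.comap j) c) : UPI φ P c := by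
  rcases hc with hc | ⟨l, hl, hlp, k, hc⟩
  · exact Or.inl (hc.changeBase h)
  · exact Or.inr ⟨l, hl, by simpa [Ideal.mem_comap] using hlp, k, hc.changeBase h⟩

end Functoriality

section Closure

variable {φ : A →+* B} {p : Ideal A} [hp : p.IsPrime]

theorem one_not_mem : (1 : A) ∉ p := fun h => hp.ne_top ((Ideal.eq_top_iff_one p).mpr h)

theorem ures_of_range (a : A) : URes φ p (φ a) :=
  ⟨1, a, one_not_mem, fun q _ _ => by simp⟩

theorem ures_of_forall_mem {b : B}
    (h : ∀ q : Ideal B, q.IsPrime → q.comap φ = p → b ∈ q) : URes φ p b :=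
  ⟨1, 0, one_not_mem, fun q hq hqp => by simpa using h q hq hqp⟩

theorem URes.mul {b c : B} (hb : URes φ p b) (hc : URes φ p c) : URes φ p (b * c) := by
  obtain ⟨s, a, hs, h1⟩ := hb
  obtain ⟨t, d, ht, h2⟩ := hc
  refine ⟨s * t, a * d, fun h => (hp.mem_or_mem h).elim hs ht, fun q hq hqp => ?_⟩
  have : φ (s * t) * (b * c) - φ (a * d) =
      (φ s * b - φ a) * (φ t * c) + φ a * (φ t * c - φ d) := by
    rw [map_mul, map_mul]; ring
  rw [this]
  exact q.add_mem (q.mul_mem_right _ (h1 q hq hqp)) (q.mul_mem_left _ (h2 q hq hqp))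

theorem URes.add {b c : B} (hb : URes φ p b) (hc : URes φ p c) : URes φ p (b + c) := by
  obtain ⟨s, a, hs, h1⟩ := hb
  obtain ⟨t, d, ht, h2⟩ := hc
  refine ⟨s * t, a * t + d * s, fun h => (hp.mem_or_mem h).elim hs ht, fun q hq hqp => ?_⟩
  have : φ (s * t) * (b + c) - φ (a * t + d * s) =
      φ t * (φ s * b - φ a) + φ s * (φ t * c - φ d) := by
    rw [map_add, map_mul, map_mul, map_mul]; ring
  rw [this]
  exact q.add_mem (q.mul_mem_left _ (h1 q hq hqp)) (q.mul_mem_left _ (h2 q hq hqp))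

theorem URes.pow {b : B} (hb : URes φ p b) (n : ℕ) : URes φ p (b ^ n) := by
  induction n with
  | zero => simpa using ures_of_range (φ := φ) (p := p) 1
  | succ n ih => rw [pow_succ]; exact ih.mul hb

theorem URes.congr {b c : B} (hb : URes φ p b)
    (h : ∀ q : Ideal B, q.IsPrime → q.comap φ = p → b - c ∈ q) : URes φ p c := by
  obtain ⟨s, a, hs, h1⟩ := hb
  refine ⟨s, a, hs, fun q hq hqp => ?_⟩
  have : φ s * c - φ a = (φ s * b - φ a) - φ s * (b - c) := by ring
  rw [this]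
  exact q.sub_mem (h1 q hq hqp) (q.mul_mem_left _ (h q hq hqp))

theorem URes.of_natCast_mul {n : ℕ} (hn : (n : A) ∉ p) {b : B} (hb : URes φ p ((n : B) * b)) :
    URes φ p b := by
  obtain ⟨s, a, hs, h1⟩ := hb
  refine ⟨s * n, a, fun h => (hp.mem_or_mem h).elim hs hn, fun q hq hqp => ?_⟩
  have := h1 q hq hqp
  rwa [map_mul, map_natCast, mul_assoc]

omit hp in
theorem eq_of_prime_mem [p.IsPrime] {l l' : ℕ} (hl : l.Prime) (hl' : l'.Prime) (h : (l : A) ∈ p)
    (h' : (l' : A) ∈ p) : l = l' := by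
  by_contra hne
  have hco : IsCoprime (l : ℤ) (l' : ℤ) :=
    Nat.isCoprime_iff_coprime.mpr ((Nat.coprime_primes hl hl').mpr hne)
  obtain ⟨u, v, huv⟩ := hco
  have : ((u : A) * l + (v : A) * l') = 1 := by exact_mod_cast congrArg (Int.cast : ℤ → A) huv
  exact one_not_mem (p := p) (this ▸ p.add_mem (p.mul_mem_left _ h) (p.mul_mem_left _ h'))

theorem UPI.exists_pow {b : B} (hb : UPI φ p b) {l : ℕ} (hl : l.Prime) (hlp : (l : A) ∈ p) :
    ∃ k, ∀ N ≥ k, URes φ p (b ^ l ^ N) := by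
  rcases hb with hb | ⟨l', hl', hlp', k, hb⟩
  · exact ⟨0, fun N _ => hb.pow _⟩
  · obtain rfl := eq_of_prime_mem hl hl' hlp hlp'
    refine ⟨k, fun N hN => ?_⟩
    obtain ⟨d, rfl⟩ := Nat.exists_eq_add_of_le hN
    rw [pow_add, pow_mul]
    exact hb.pow _

omit hp in
theorem UPI.ures_of_no_prime {b : B} (hb : UPI φ p b)
    (h : ¬ ∃ l : ℕ, l.Prime ∧ (l : A) ∈ p) : URes φ p b := by
  rcases hb with hb | ⟨l, hl, hlp, -⟩
  · exact hb
  · exact (h ⟨l, hl, hlp⟩).elim

theorem UPI.mul {b c : B} (hb : UPI φ p b) (hc : UPI φ p c) : UPI φ p (b * c) := by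
  by_cases h : ∃ l : ℕ, l.Prime ∧ (l : A) ∈ p
  · obtain ⟨l, hl, hlp⟩ := h
    obtain ⟨k, hk⟩ := hb.exists_pow hl hlp
    obtain ⟨m, hm⟩ := hc.exists_pow hl hlp
    refine Or.inr ⟨l, hl, hlp, k + m, ?_⟩
    rw [mul_pow]
    exact (hk _ (Nat.le_add_right _ _)).mul (hm _ (Nat.le_add_left _ _))
  · exact Or.inl ((hb.ures_of_no_prime h).mul (hc.ures_of_no_prime h))

theorem UPI.add {b c : B} (hb : UPI φ p b) (hc : UPI φ p c) : UPI φ p (b + c) := by
  by_cases h : ∃ l : ℕ, l.Prime ∧ (l : A) ∈ p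
  · obtain ⟨l, hl, hlp⟩ := h
    obtain ⟨k, hk⟩ := hb.exists_pow hl hlp
    obtain ⟨m, hm⟩ := hc.exists_pow hl hlp
    refine Or.inr ⟨l, hl, hlp, k + m, ?_⟩
    obtain ⟨r, hr⟩ := exists_add_pow_prime_pow_eq hl b c (k + m)
    refine ((hk _ (Nat.le_add_right k m)).add (hm _ (Nat.le_add_left m k))).congr
      fun q hq hqp => ?_
    have hlq : (l : B) ∈ q := by
      rw [← map_natCast φ, ← Ideal.mem_comap, hqp]; exact hlp
    rw [hr, show b ^ l ^ (k + m) + c ^ l ^ (k + m) -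
      (b ^ l ^ (k + m) + c ^ l ^ (k + m) + (l : B) * b * c * r) = (l : B) * (-(b * c * r)) by ring]
    exact q.mul_mem_right _ hlq
  · exact Or.inl ((hb.ures_of_no_prime h).add (hc.ures_of_no_prime h))

theorem ures_of_sq_cube {b : B} (h2 : URes φ p (b ^ 2)) (h3 : URes φ p (b ^ 3)) :
    URes φ p b := by
  obtain ⟨s, x, hs, h2⟩ := h2
  obtain ⟨t, y, ht, h3⟩ := h3
  by_cases hx : x ∈ p
  · refine ures_of_forall_mem fun q hq hqp => ?_
    have hx' : φ x ∈ q := by rw [← Ideal.mem_comap, hqp]; exact hx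
    have hsb : φ s * b ^ 2 ∈ q := by simpa using q.add_mem (h2 q hq hqp) hx'
    exact hq.mem_of_pow_mem 2
      ((hq.mem_or_mem hsb).resolve_left fun h => hs (by rw [← hqp]; exact h))
  · refine ⟨t * x, s * y, fun h => (hp.mem_or_mem h).elim ht hx, fun q hq hqp => ?_⟩
    have : φ (t * x) * b - φ (s * y) =
        φ s * (φ t * b ^ 3 - φ y) - φ t * b * (φ s * b ^ 2 - φ x) := by
      rw [map_mul, map_mul]; ring
    rw [this]
    exact q.sub_mem (q.mul_mem_left _ (h3 q hq hqp)) (q.mul_mem_left _ (h2 q hq hqp))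

theorem upi_of_sq_cube {b : B} (h2 : UPI φ p (b ^ 2)) (h3 : UPI φ p (b ^ 3)) : UPI φ p b := by
  by_cases h : ∃ l : ℕ, l.Prime ∧ (l : A) ∈ p
  · obtain ⟨l, hl, hlp⟩ := h
    obtain ⟨k, hk⟩ := h2.exists_pow hl hlp
    obtain ⟨m, hm⟩ := h3.exists_pow hl hlp
    refine Or.inr ⟨l, hl, hlp, k + m, ures_of_sq_cube ?_ ?_⟩
    · rw [← pow_mul, mul_comm, pow_mul]; exact hk _ (Nat.le_add_right _ _)
    · rw [← pow_mul, mul_comm, pow_mul]; exact hm _ (Nat.le_add_left _ _)
  · exact Or.inl (ures_of_sq_cube (h2.ures_of_no_prime h) (h3.ures_of_no_prime h))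

theorem upi_of_prime_step {l : ℕ} (hl : l.Prime) {b : B} (h1 : UPI φ p ((l : B) * b))
    (h2 : UPI φ p (b ^ l)) : UPI φ p b := by
  by_cases hlp : (l : A) ∈ p
  · obtain ⟨k, hk⟩ := h2.exists_pow hl hlp
    refine Or.inr ⟨l, hl, hlp, k + 1, ?_⟩
    rw [pow_succ', pow_mul]
    exact hk k le_rfl
  · rcases h1 with h1 | ⟨l', hl', hlp', k, h1⟩
    · exact Or.inl (h1.of_natCast_mul hlp)
    · refine Or.inr ⟨l', hl', hlp', k, URes.of_natCast_mul (n := l ^ (l' ^ k)) ?_ ?_⟩
      · rw [Nat.cast_pow]; exact fun h => hlp (hp.mem_of_pow_mem _ h)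
      · rw [Nat.cast_pow, ← mul_pow]; exact h1

end Closure

section Alg

variable (A B) [Algebra A B]

/-- Integral elements with purely inseparable residues. -/
def good : Subalgebra A B where
  carrier := {b | IsIntegral A b ∧ ∀ p : Ideal A, p.IsPrime → UPI (algebraMap A B) p b}
  mul_mem' hb hc := ⟨hb.1.mul hc.1, fun p hp => (hb.2 p hp).mul (hp := hp) (hc.2 p hp)⟩
  add_mem' hb hc := ⟨hb.1.add hc.1, fun p hp => (hb.2 p hp).add (hp := hp) (hc.2 p hp)⟩
  algebraMap_mem' a := ⟨isIntegral_algebraMap, fun _ hp => Or.inl (ures_of_range (hp := hp) a)⟩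

/-- Integral elements with trivial residues. -/
def trivGood : Subalgebra A B where
  carrier := {b | IsIntegral A b ∧ ∀ p : Ideal A, p.IsPrime → URes (algebraMap A B) p b}
  mul_mem' hb hc := ⟨hb.1.mul hc.1, fun p hp => (hb.2 p hp).mul (hp := hp) (hc.2 p hp)⟩
  add_mem' hb hc := ⟨hb.1.add hc.1, fun p hp => (hb.2 p hp).add (hp := hp) (hc.2 p hp)⟩
  algebraMap_mem' a := ⟨isIntegral_algebraMap, fun _ hp => ures_of_range (hp := hp) a⟩

theorem good_eq_top_iff :
    good A B = ⊤ ↔ (algebraMap A B).IsIntegral ∧ Radicial (algebraMap A B) := by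
  rw [eq_top_iff]
  refine ⟨fun h => ⟨fun b => (h (Algebra.mem_top : b ∈ ⊤)).1,
    fun p hp b => (h (Algebra.mem_top : b ∈ ⊤)).2 p hp⟩, fun h b _ => ⟨h.1 b, fun p hp => h.2 p hp b⟩⟩

theorem trivGood_eq_top_iff :
    trivGood A B = ⊤ ↔ (algebraMap A B).IsIntegral ∧ TrivRad (algebraMap A B) := by
  rw [eq_top_iff]
  refine ⟨fun h => ⟨fun b => (h (Algebra.mem_top : b ∈ ⊤)).1,
    fun p hp b => (h (Algebra.mem_top : b ∈ ⊤)).2 p hp⟩, fun h b _ => ⟨h.1 b, fun p hp => h.2 p hp b⟩⟩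

variable {A B}

/-- The first kind of elementary step. -/
def SqCube (S : Subalgebra A B) (b : B) : Prop := b ^ 2 ∈ S ∧ b ^ 3 ∈ S

/-- Both kinds of elementary steps. -/
def PStep (S : Subalgebra A B) (b : B) : Prop :=
  SqCube S b ∨ ∃ l : ℕ, l.Prime ∧ (l : B) * b ∈ S ∧ b ^ l ∈ S

/-- `S` is closed under steps of kind `St`. -/
def StepClosed (St : Subalgebra A B → B → Prop) (S : Subalgebra A B) : Prop :=
  ∀ b, St S b → b ∈ S

theorem stepClosed_trivGood : StepClosed SqCube (trivGood A B) := fun b hb =>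
  ⟨hb.1.1.of_pow (by norm_num), fun p hp => ures_of_sq_cube (hp := hp) (hb.1.2 p hp) (hb.2.2 p hp)⟩

theorem stepClosed_good : StepClosed PStep (good A B) := by
  intro b hb
  rcases hb with ⟨h2, h3⟩ | ⟨l, hl, h1, h2⟩
  · exact ⟨h2.1.of_pow (by norm_num), fun p hp => upi_of_sq_cube (hp := hp) (h2.2 p hp) (h3.2 p hp)⟩
  · exact ⟨h2.1.of_pow hl.pos,
      fun p hp => upi_of_prime_step (hp := hp) hl (h1.2 p hp) (h2.2 p hp)⟩

variable [Algebra A C]

theorem map_good (f : B →ₐ[A] C) {b : B} (h : b ∈ good A B) : f b ∈ good A C :=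
  ⟨h.1.map f, fun p hp => (h.2 p hp).map (i := f.toRingHom) f.commutes⟩

theorem map_trivGood (f : B →ₐ[A] C) {b : B} (h : b ∈ trivGood A B) : f b ∈ trivGood A C :=
  ⟨h.1.map f, fun p hp => (h.2 p hp).map (i := f.toRingHom) f.commutes⟩

theorem comap_surjective_of_injective {i : B →+* C} (hi : Function.Injective i)
    (hint : i.IsIntegral) : Function.Surjective (PrimeSpectrum.comap i) := by
  intro q
  letI := i.toAlgebra
  haveI : Algebra.IsIntegral B C := ⟨hint⟩
  haveI := q.isPrime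
  have hle : (⊥ : Ideal C).comap (algebraMap B C) ≤ q.asIdeal := fun x hx => by
    have : i x = 0 := hx
    rw [hi (this.trans (map_zero i).symm)]
    exact zero_mem _
  obtain ⟨Q, -, hQ, hQq⟩ := Ideal.exists_ideal_over_prime_of_isIntegral q.asIdeal ⊥ hle
  exact ⟨⟨Q, hQ⟩, PrimeSpectrum.ext hQq⟩

theorem good_eq_top_of_injective (f : B →ₐ[A] C) (hf : Function.Injective f)
    (h : good A C = ⊤) : good A B = ⊤ := by
  rw [good_eq_top_iff] at h ⊢
  have hiB : (algebraMap A B).IsIntegral := fun b => (isIntegral_algHom_iff f hf).mp (h.1 (f b))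
  have hfi : f.toRingHom.IsIntegral := RingHom.IsIntegral.tower_top (algebraMap A B) _
    (by rw [show f.toRingHom.comp (algebraMap A B) = algebraMap A C from RingHom.ext f.commutes]; exact h.1)
  exact ⟨hiB, fun p hp b => (h.2 p hp (f b)).of_map (i := f.toRingHom) f.commutes
    (comap_surjective_of_injective hf hfi)⟩

theorem trivGood_eq_top_of_injective (f : B →ₐ[A] C) (hf : Function.Injective f)
    (h : trivGood A C = ⊤) : trivGood A B = ⊤ := by
  rw [trivGood_eq_top_iff] at h ⊢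
  have hiB : (algebraMap A B).IsIntegral := fun b => (isIntegral_algHom_iff f hf).mp (h.1 (f b))
  have hfi : f.toRingHom.IsIntegral := RingHom.IsIntegral.tower_top (algebraMap A B) _
    (by rw [show f.toRingHom.comp (algebraMap A B) = algebraMap A C from RingHom.ext f.commutes]; exact h.1)
  exact ⟨hiB, fun p hp b => (h.2 p hp (f b)).of_map (i := f.toRingHom) f.commutes
    (comap_surjective_of_injective hf hfi)⟩

end Alg

end Groth.Agent.H75.UH
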