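import Groth.Agent.H75.UH.Tower
import Mathlib.RingTheory.FinitePresentation
import Mathlib.RingTheory.Ideal.Quotient.Operations
import Mathlib.Algebra.Category.Ring.Under.Basic

/-!
An algebra all of whose finite subsets are covered by towers is a filtered colimit of finitely
presented algebras with the same property.
-/

open CategoryTheory MvPolynomial

universe u

namespace Groth.Agent.H75.UH.Approx

variable {A B : Type u} [CommRing A] [CommRing B] [Algebra A B]

/-- Evaluation of polynomials in elements of `E`. -/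
noncomputable abbrev ev (E : Finset B) : MvPolynomial {x // x ∈ E} A →ₐ[A] B :=
  MvPolynomial.aeval Subtype.val

/-- Inclusion of variables. -/
noncomputable abbrev incl {E E' : Finset B} (h : E ⊆ E') :
    MvPolynomial {x // x ∈ E} A →ₐ[A] MvPolynomial {x // x ∈ E'} A :=
  MvPolynomial.rename fun e => ⟨e.1, h e.2⟩

theorem ev_incl {E E' : Finset B} (h : E ⊆ E') (P : MvPolynomial {x // x ∈ E} A) :
    ev E' (incl h P) = ev E P := by
  simp only [ev, incl, aeval_rename]
  rfl

theorem adjoin_eq_range (E : Finset B) : Algebra.adjoin A (E : Set B) = (ev (A := A) E).range := by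
  rw [← Algebra.adjoin_range_eq_range_aeval, Subtype.range_coe_subtype]
  rfl

variable (G : ∀ (P : Type u) [CommRing P] [Algebra A P], Subalgebra A P)

/-- An approximation. -/
structure Idx (B : Type u) [CommRing B] [Algebra A B] where
  E : Finset B
  I : Ideal (MvPolynomial {x // x ∈ E} A)
  fg : I.FG
  le : ∀ P ∈ I, ev E P = 0
  top : G (MvPolynomial {x // x ∈ E} A ⧸ I) = ⊤

variable {G}
variable (hmap : ∀ {P Q : Type u} [CommRing P] [CommRing Q] [Algebra A P] [Algebra A Q]
    (f : P →ₐ[A] Q) {x : P}, x ∈ G P → f x ∈ G Q)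

theorem eq_top_of_vars {σ : Type u} (I : Ideal (MvPolynomial σ A))
    (h : ∀ e, Ideal.Quotient.mkₐ A I (X e) ∈ G (MvPolynomial σ A ⧸ I)) :
    G (MvPolynomial σ A ⧸ I) = ⊤ := by
  rw [eq_top_iff]
  intro z _
  obtain ⟨P, rfl⟩ := Ideal.Quotient.mkₐ_surjective A I z
  induction P using MvPolynomial.induction_on with
  | C a =>
    rw [← MvPolynomial.algebraMap_eq, AlgHom.commutes]
    exact Subalgebra.algebraMap_mem _ a
  | add P Q hP hQ => rw [map_add]; exact add_mem (hP trivial) (hQ trivial)
  | mul_X P e hP => rw [map_mul]; exact mul_mem (hP trivial) (h e)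

include hmap in
theorem top_of_surjective {P Q : Type u} [CommRing P] [CommRing Q] [Algebra A P] [Algebra A Q]
    (f : P →ₐ[A] Q) (hf : Function.Surjective f) (h : G P = ⊤) : G Q = ⊤ := by
  rw [eq_top_iff]
  intro z _
  obtain ⟨w, rfl⟩ := hf z
  exact hmap f (h ▸ Algebra.mem_top)

include hmap in
/-- Add a variable. -/
theorem extend [DecidableEq B] (i : Idx G B) (b : B)
    (R : Finset (MvPolynomial {x // x ∈ insert b i.E} A))
    (hR : ∀ r ∈ R, ev (insert b i.E) r = 0)
    (hb : ∀ (Q : Type u) [CommRing Q] [Algebra A Q]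
      (f : MvPolynomial {x // x ∈ insert b i.E} A →ₐ[A] Q), (∀ r ∈ R, f r = 0) →
      (∀ P, f (incl (Finset.subset_insert b i.E) P) ∈ G Q) →
      f (X ⟨b, Finset.mem_insert_self b i.E⟩) ∈ G Q) :
    ∃ j : Idx G B, j.E = insert b i.E := by
  let ι := incl (A := A) (Finset.subset_insert b i.E)
  let I' : Ideal (MvPolynomial {x // x ∈ insert b i.E} A) :=
    i.I.map ι.toRingHom ⊔ Ideal.span (R : Set _)
  have hle : ∀ P ∈ I', ev (insert b i.E) P = 0 := by
    intro P hP
    refine RingHom.mem_ker.mp ((?_ : I' ≤ RingHom.ker (ev (insert b i.E)).toRingHom) hP)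
    refine sup_le (Ideal.map_le_iff_le_comap.mpr fun Q hQ => ?_) (Ideal.span_le.mpr hR)
    simp only [Ideal.mem_comap, RingHom.mem_ker]
    exact (ev_incl _ Q).trans (i.le Q hQ)
  let f := Ideal.Quotient.mkₐ A I'
  have hι : ∀ Q ∈ i.I, f (ι Q) = 0 := fun Q hQ => by
    simp only [f, Ideal.Quotient.mkₐ_eq_mk, Ideal.Quotient.eq_zero_iff_mem]
    exact Ideal.mem_sup_left (Ideal.mem_map_of_mem ι.toRingHom hQ)
  have hold : ∀ P, f (ι P) ∈ G (MvPolynomial {x // x ∈ insert b i.E} A ⧸ I') := fun P =>
    hmap (Ideal.Quotient.liftₐ i.I (f.comp ι) hι) (x := Ideal.Quotient.mk i.I P)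
      (i.top ▸ Algebra.mem_top)
  refine ⟨⟨insert b i.E, I', Submodule.FG.sup (i.fg.map _) ⟨R, rfl⟩, hle, eq_top_of_vars I' ?_⟩, rfl⟩
  rintro ⟨e, he⟩
  rcases Finset.mem_insert.mp he with rfl | he'
  · refine hb _ f (fun r hr => ?_) hold
    simp only [f, Ideal.Quotient.mkₐ_eq_mk, Ideal.Quotient.eq_zero_iff_mem]
    exact Ideal.mem_sup_right (Ideal.subset_span hr)
  · have := hold (X ⟨e, he'⟩)
    simpa [ι, incl, f] using this

include hmap in
theorem extend_mem [DecidableEq B] (i : Idx G B) {b : B}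
    (hb : b ∈ Algebra.adjoin A (i.E : Set B)) : ∃ j : Idx G B, j.E = insert b i.E := by
  rw [adjoin_eq_range] at hb
  obtain ⟨P, hP⟩ := hb
  refine extend hmap i b
    {X ⟨b, Finset.mem_insert_self b i.E⟩ - incl (Finset.subset_insert b i.E) P} ?_ ?_
  · simp only [Finset.mem_singleton, forall_eq, map_sub, ev_incl, aeval_X]
    exact sub_eq_zero.mpr hP.symm
  · intro Q _ _ f hf hold
    have := hf _ (Finset.mem_singleton_self _)
    rw [map_sub, sub_eq_zero] at this
    exact this ▸ hold P

include hmap in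
theorem extend_finset [DecidableEq B] (i : Idx G B) (E₀ : Finset B)
    (h : (↑E₀ : Set B) ⊆ Algebra.adjoin A (i.E : Set B)) :
    ∃ j : Idx G B, i.E ∪ E₀ ⊆ j.E := by
  induction E₀ using Finset.induction with
  | empty => exact ⟨i, by simp⟩
  | @insert b E₀ _ ih =>
    rw [Finset.coe_insert, Set.insert_subset_iff] at h
    obtain ⟨j, hj⟩ := ih h.2
    obtain ⟨k, hk⟩ := extend_mem hmap j (Algebra.adjoin_mono
      (Finset.coe_subset.mpr (Finset.union_subset_left hj)) h.1)
    refine ⟨k, hk ▸ ?_⟩
    rw [Finset.union_insert]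
    exact Finset.insert_subset_insert b hj

/-- The empty approximation. -/
theorem exists_empty : ∃ i : Idx G B, i.E = ∅ :=
  ⟨⟨∅, ⊥, Submodule.fg_bot, fun P hP => by rw [(Submodule.mem_bot _).mp hP, map_zero],
    eq_top_of_vars ⊥ fun e => absurd e.2 (Finset.notMem_empty _)⟩, rfl⟩

/-- `S` is covered by an approximation. -/
def Covered (G : ∀ (P : Type u) [CommRing P] [Algebra A P], Subalgebra A P)
    (S : Subalgebra A B) : Prop :=
  ∃ i : Idx G B, S ≤ Algebra.adjoin A (i.E : Set B)

theorem covered_bot : Covered G (⊥ : Subalgebra A B) := by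
  obtain ⟨i, -⟩ := exists_empty (G := G) (B := B)
  exact ⟨i, bot_le⟩

include hmap in
theorem covered_step [DecidableEq B] (i : Idx G B) {S : Subalgebra A B}
    (hS : S ≤ Algebra.adjoin A (i.E : Set B)) (b : B)
    (R : Finset (MvPolynomial {x // x ∈ insert b i.E} A))
    (hR : ∀ r ∈ R, ev (insert b i.E) r = 0)
    (hb : ∀ (Q : Type u) [CommRing Q] [Algebra A Q]
      (f : MvPolynomial {x // x ∈ insert b i.E} A →ₐ[A] Q), (∀ r ∈ R, f r = 0) →
      (∀ P, f (incl (Finset.subset_insert b i.E) P) ∈ G Q) →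
      f (X ⟨b, Finset.mem_insert_self b i.E⟩) ∈ G Q) :
    Covered G (S ⊔ Algebra.adjoin A {b}) := by
  obtain ⟨j, hj⟩ := extend hmap i b R hR hb
  refine ⟨j, sup_le (hS.trans (Algebra.adjoin_mono ?_)) (Algebra.adjoin_mono ?_)⟩
  · rw [hj, Finset.coe_insert]; exact Set.subset_insert _ _
  · rw [hj, Finset.coe_insert]; exact Set.singleton_subset_iff.mpr (Set.mem_insert _ _)

include hmap in
theorem covered_sqCube (hst : ∀ (Q : Type u) [CommRing Q] [Algebra A Q],
      StepClosed SqCube (G Q)) {S : Subalgebra A B} (h : Covered G S) {b : B} (hb : SqCube S b) :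
    Covered G (S ⊔ Algebra.adjoin A {b}) := by
  classical
  obtain ⟨i, hi⟩ := h
  have h2 := hi hb.1
  have h3 := hi hb.2
  rw [adjoin_eq_range] at h2 h3
  obtain ⟨P, hP⟩ := h2
  obtain ⟨P', hP'⟩ := h3
  let ι := incl (A := A) (Finset.subset_insert b i.E)
  let x : MvPolynomial {x // x ∈ insert b i.E} A := X ⟨b, Finset.mem_insert_self b i.E⟩
  have hx : ev (insert b i.E) x = b := aeval_X _ _
  refine covered_step hmap i hi b {x ^ 2 - ι P, x ^ 3 - ι P'} ?_ ?_
  · intro r hr
    simp only [Finset.mem_insert, Finset.mem_singleton] at hr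
    rcases hr with rfl | rfl <;> rw [map_sub, map_pow, hx, ev_incl, sub_eq_zero]
    exacts [hP.symm, hP'.symm]
  · intro Q _ _ f hf hold
    have e2 := hf (x ^ 2 - ι P) (by simp)
    have e3 := hf (x ^ 3 - ι P') (by simp)
    rw [map_sub, map_pow, sub_eq_zero] at e2 e3
    exact hst Q (f x) ⟨e2 ▸ hold P, e3 ▸ hold P'⟩

include hmap in
theorem covered_pStep (hst : ∀ (Q : Type u) [CommRing Q] [Algebra A Q],
      StepClosed PStep (G Q)) {S : Subalgebra A B} (h : Covered G S) {b : B} (hb : PStep S b) :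
    Covered G (S ⊔ Algebra.adjoin A {b}) := by
  classical
  rcases hb with hb | ⟨l, hl, h2, h3⟩
  · exact covered_sqCube hmap (fun Q _ _ c hc => hst Q c (Or.inl hc)) h hb
  obtain ⟨i, hi⟩ := h
  replace h2 := hi h2
  replace h3 := hi h3
  rw [adjoin_eq_range] at h2 h3
  obtain ⟨P, hP⟩ := h2
  obtain ⟨P', hP'⟩ := h3
  let ι := incl (A := A) (Finset.subset_insert b i.E)
  let x : MvPolynomial {x // x ∈ insert b i.E} A := X ⟨b, Finset.mem_insert_self b i.E⟩
  have hx : ev (insert b i.E) x = b := aeval_X _ _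
  refine covered_step hmap i hi b {(l : MvPolynomial _ A) * x - ι P, x ^ l - ι P'} ?_ ?_
  · intro r hr
    simp only [Finset.mem_insert, Finset.mem_singleton] at hr
    rcases hr with rfl | rfl
    · rw [map_sub, map_mul, map_natCast, hx, ev_incl, sub_eq_zero]; exact hP.symm
    · rw [map_sub, map_pow, hx, ev_incl, sub_eq_zero]; exact hP'.symm
  · intro Q _ _ f hf hold
    have e2 := hf ((l : MvPolynomial _ A) * x - ι P) (by simp)
    have e3 := hf (x ^ l - ι P') (by simp)
    rw [map_sub, map_mul, map_natCast, sub_eq_zero] at e2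
    rw [map_sub, map_pow, sub_eq_zero] at e3
    exact hst Q (f x) (Or.inr ⟨l, hl, e2 ▸ hold P, e3 ▸ hold P'⟩)

section Colimit

/-- Transition preorder. -/
instance : Preorder (Idx G B) where
  le i j := ∃ h : i.E ⊆ j.E, i.I.map (incl (A := A) h).toRingHom ≤ j.I
  le_refl i := ⟨subset_rfl, by
    rw [show (incl (A := A) (subset_refl i.E)).toRingHom = RingHom.id _ from
      congrArg AlgHom.toRingHom (MvPolynomial.algHom_ext
        (f := incl (A := A) (subset_refl i.E)) (g := AlgHom.id A _) fun e => by simp [incl])]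
    rw [Ideal.map_id]⟩
  le_trans i j k := fun ⟨h, h'⟩ ⟨g, g'⟩ => ⟨h.trans g, by
    rw [show (incl (A := A) (h.trans g)).toRingHom =
        (incl (A := A) g).toRingHom.comp (incl (A := A) h).toRingHom from
      congrArg AlgHom.toRingHom (MvPolynomial.algHom_ext
        (f := incl (A := A) (h.trans g)) (g := (incl g).comp (incl h)) fun e => by simp [incl]),
      ← Ideal.map_map]
    exact (Ideal.map_mono h').trans g'⟩

/-- The algebra of an approximation. -/
abbrev Obj (i : Idx G B) : Type u := MvPolynomial {x // x ∈ i.E} A ⧸ i.I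

/-- Transition maps. -/
noncomputable def trans {i j : Idx G B} (h : i ≤ j) : Obj i →ₐ[A] Obj j :=
  Ideal.Quotient.liftₐ i.I ((Ideal.Quotient.mkₐ A j.I).comp (incl h.1)) fun P hP =>
    Ideal.Quotient.eq_zero_iff_mem.mpr (h.2 (Ideal.mem_map_of_mem _ hP))

theorem trans_mk {i j : Idx G B} (h : i ≤ j) (P : MvPolynomial {x // x ∈ i.E} A) :
    trans h (Ideal.Quotient.mk i.I P) = Ideal.Quotient.mk j.I (incl h.1 P) := rfl

theorem trans_eq_id (i : Idx G B) (h : i ≤ i) (z : Obj i) : trans h z = z := by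
  obtain ⟨P, rfl⟩ := Ideal.Quotient.mk_surjective z
  rw [trans_mk, show incl h.1 = AlgHom.id A _ from
    MvPolynomial.algHom_ext fun e => by simp [incl]]
  rfl

theorem trans_trans {i j k : Idx G B} (h : i ≤ j) (g : j ≤ k) (h' : i ≤ k) (z : Obj i) :
    trans h' z = trans g (trans h z) := by
  obtain ⟨P, rfl⟩ := Ideal.Quotient.mk_surjective z
  rw [trans_mk, trans_mk, trans_mk, show incl h'.1 = (incl g.1).comp (incl h.1) from
    MvPolynomial.algHom_ext fun e => by simp [incl]]
  rfl

/-- The map to `B`. -/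
noncomputable def toB (i : Idx G B) : Obj i →ₐ[A] B := Ideal.Quotient.liftₐ i.I (ev i.E) i.le

theorem toB_mk (i : Idx G B) (P : MvPolynomial {x // x ∈ i.E} A) :
    toB i (Ideal.Quotient.mk i.I P) = ev i.E P := rfl

theorem toB_trans {i j : Idx G B} (h : i ≤ j) (z : Obj i) : toB j (trans h z) = toB i z := by
  obtain ⟨P, rfl⟩ := Ideal.Quotient.mk_surjective z
  rw [trans_mk, toB_mk, toB_mk, ev_incl]

theorem ker_algebraMap_le (i : Idx G B) (hker : RingHom.ker (algebraMap A B) ≤ nilradical A) :
    RingHom.ker (algebraMap A (Obj i)) ≤ nilradical A := fun a ha => hker (RingHom.mem_ker.mpr (by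
  rw [← (toB i).commutes, RingHom.mem_ker.mp ha, map_zero]))

/-- Hypothesis: every finite subset is covered. -/
def AllCovered (G : ∀ (P : Type u) [CommRing P] [Algebra A P], Subalgebra A P)
    (B : Type u) [CommRing B] [Algebra A B] : Prop :=
  ∀ E₀ : Finset B, ∃ i : Idx G B, E₀ ⊆ i.E

include hmap in
theorem allCovered_of_covered (h : ∀ E₀ : Finset B, ∃ S : Subalgebra A B,
    Covered G S ∧ (↑E₀ : Set B) ⊆ S) : AllCovered G B := by
  classical
  intro E₀
  obtain ⟨S, ⟨i, hi⟩, hE⟩ := h E₀
  obtain ⟨j, hj⟩ := extend_finset hmap i E₀ (hE.trans hi)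
  exact ⟨j, Finset.union_subset_right hj⟩

include hmap in
theorem exists_ge_with (hc : AllCovered G B) (i j : Idx G B) :
    ∃ k, i ≤ k ∧ j ≤ k := by
  classical
  obtain ⟨k, hk⟩ := hc (i.E ∪ j.E)
  let hi := Finset.union_subset_left hk
  let hj := Finset.union_subset_right hk
  let I' := k.I ⊔ i.I.map (incl (A := A) hi).toRingHom ⊔ j.I.map (incl (A := A) hj).toRingHom
  have hle : ∀ P ∈ I', ev k.E P = 0 := by
    intro P hP
    refine RingHom.mem_ker.mp ((?_ : I' ≤ RingHom.ker (ev k.E).toRingHom) hP)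
    refine sup_le (sup_le (fun P hP => RingHom.mem_ker.mpr (k.le P hP))
      (Ideal.map_le_iff_le_comap.mpr fun Q hQ => ?_))
      (Ideal.map_le_iff_le_comap.mpr fun Q hQ => ?_)
    · exact RingHom.mem_ker.mpr ((ev_incl hi Q).trans (i.le Q hQ))
    · exact RingHom.mem_ker.mpr ((ev_incl hj Q).trans (j.le Q hQ))
  refine ⟨⟨k.E, I', Submodule.FG.sup (Submodule.FG.sup k.fg (i.fg.map _)) (j.fg.map _), hle,
    top_of_surjective hmap (Ideal.Quotient.factorₐ A (le_sup_left.trans le_sup_left))
      (Ideal.Quotient.factor_surjective (le_sup_left.trans le_sup_left)) k.top⟩,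
    ⟨hi, le_sup_right.trans le_sup_left⟩, ⟨hj, le_sup_right⟩⟩

include hmap in
theorem exists_eq_of_toB_eq (hc : AllCovered G B) {i j : Idx G B} (x : Obj i) (y : Obj j)
    (h : toB i x = toB j y) : ∃ (k : Idx G B) (hi : i ≤ k) (hj : j ≤ k),
      trans hi x = trans hj y := by
  obtain ⟨k, hi, hj⟩ := exists_ge_with hmap hc i j
  obtain ⟨P, hP⟩ := Ideal.Quotient.mk_surjective (trans hi x - trans hj y)
  let I' := k.I ⊔ Ideal.span {P}
  have hle : ∀ Q ∈ I', ev k.E Q = 0 := by
    intro Q hQ
    refine RingHom.mem_ker.mp ((?_ : I' ≤ RingHom.ker (ev k.E).toRingHom) hQ)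
    refine sup_le (fun Q hQ => RingHom.mem_ker.mpr (k.le Q hQ))
      (Ideal.span_le.mpr (Set.singleton_subset_iff.mpr (RingHom.mem_ker.mpr ?_)))
    show ev k.E P = 0
    rw [← toB_mk, hP, map_sub, toB_trans, toB_trans, h, sub_self]
  let k' : Idx G B := ⟨k.E, I', Submodule.FG.sup k.fg ⟨{P}, by simp⟩, hle,
    top_of_surjective hmap (Ideal.Quotient.factorₐ A le_sup_left)
      (Ideal.Quotient.factor_surjective le_sup_left) k.top⟩
  have hk : k ≤ k' := ⟨subset_rfl, by
    refine Ideal.map_le_iff_le_comap.mpr fun Q hQ => Ideal.mem_comap.mpr ?_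
    rw [show incl (A := A) (subset_refl k.E) = AlgHom.id A _ from
      MvPolynomial.algHom_ext fun e => by simp [incl]]
    exact Ideal.mem_sup_left hQ⟩
  refine ⟨k', hi.trans hk, hj.trans hk, ?_⟩
  rw [trans_trans hi hk, trans_trans hj hk, ← sub_eq_zero, ← map_sub, ← hP, trans_mk,
    Ideal.Quotient.eq_zero_iff_mem,
    show incl (A := A) hk.1 = AlgHom.id A _ from MvPolynomial.algHom_ext fun e => by simp [incl]]
  exact Ideal.mem_sup_right (Ideal.subset_span rfl)

/-- The diagram. -/
noncomputable def diagram (G : ∀ (P : Type u) [CommRing P] [Algebra A P], Subalgebra A P)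
    (B : Type u) [CommRing B] [Algebra A B] : Idx G B ⥤ Under (CommRingCat.of A) where
  obj i := Under.mk (CommRingCat.ofHom (algebraMap A (Obj i)))
  map {i j} h := Under.homMk (CommRingCat.ofHom (trans (leOfHom h)).toRingHom)
    (CommRingCat.hom_ext (RingHom.ext fun a => (trans (leOfHom h)).commutes a))
  map_id i := by
    ext z
    exact trans_eq_id i (le_refl i) z
  map_comp f g := by
    ext z
    exact trans_trans (leOfHom f) (leOfHom g) (leOfHom (f ≫ g)) z

/-- The cocone. -/
noncomputable def cocone (G : ∀ (P : Type u) [CommRing P] [Algebra A P], Subalgebra A P)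
    (B : Type u) [CommRing B] [Algebra A B] : Limits.Cocone (diagram G B) where
  pt := Under.mk (CommRingCat.ofHom (algebraMap A B))
  ι :=
    { app := fun i => Under.homMk (CommRingCat.ofHom (toB i).toRingHom)
        (CommRingCat.hom_ext (RingHom.ext fun a => (toB i).commutes a))
      naturality := fun i j h => by
        ext z
        exact toB_trans (leOfHom h) z }

include hmap in
theorem nonempty_isColimit (hc : AllCovered G B) :
    Nonempty (Limits.IsColimit (cocone G B)) := by
  classical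
  have hex : ∀ b : B, ∃ (i : Idx G B) (x : Obj i), toB i x = b := fun b => by
    obtain ⟨i, hi⟩ := hc {b}
    exact ⟨i, Ideal.Quotient.mk i.I (X ⟨b, hi (Finset.mem_singleton_self b)⟩),
      by rw [toB_mk]; exact aeval_X _ _⟩
  choose idx el hel using hex
  let app : ∀ (s : Limits.Cocone (diagram G B)) (i : Idx G B), Obj i →+* s.pt.right :=
    fun s i => (s.ι.app i).right.hom
  have happ : ∀ s {i j : Idx G B} (h : i ≤ j) (z : Obj i), app s j (trans h z) = app s i z :=
    fun s i j h z =>
      congrArg (fun f : (diagram G B).obj i ⟶ s.pt => f.right.hom z) (s.w (homOfLE h))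
  have huniq : ∀ s {i j : Idx G B} (x : Obj i) (y : Obj j), toB i x = toB j y →
      app s i x = app s j y := by
    intro s i j x y h
    obtain ⟨k, hi, hj, he⟩ := exists_eq_of_toB_eq hmap hc x y h
    rw [← happ s hi, ← happ s hj, he]
  let d : ∀ s : Limits.Cocone (diagram G B), B →+* s.pt.right := fun s =>
    { toFun := fun b => app s (idx b) (el b)
      map_zero' := by
        rw [huniq s (el 0) (0 : Obj (idx 0)) (by rw [hel, map_zero]), map_zero]
      map_one' := by
        rw [huniq s (el 1) (1 : Obj (idx 1)) (by rw [hel, map_one]), map_one]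
      map_add' := fun b c => by
        obtain ⟨k, hi, hj⟩ := exists_ge_with hmap hc (idx b) (idx c)
        rw [huniq s (el (b + c)) (trans hi (el b) + trans hj (el c))
          (by rw [hel, map_add, toB_trans, toB_trans, hel, hel]), map_add, happ, happ]
      map_mul' := fun b c => by
        obtain ⟨k, hi, hj⟩ := exists_ge_with hmap hc (idx b) (idx c)
        rw [huniq s (el (b * c)) (trans hi (el b) * trans hj (el c))
          (by rw [hel, map_mul, toB_trans, toB_trans, hel, hel]), map_mul, happ, happ] }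
  have hd : ∀ s i (z : Obj i), d s (toB i z) = app s i z := fun s i z => huniq s _ z (hel _)
  refine ⟨{ desc := fun s => Under.homMk (CommRingCat.ofHom (d s)) ?_, fac := ?_, uniq := ?_ }⟩
  · refine CommRingCat.hom_ext (RingHom.ext fun a => ?_)
    change d s (algebraMap A B a) = s.pt.hom.hom a
    rw [← (toB (idx 0)).commutes, hd]
    exact congrArg (fun f : CommRingCat.of A ⟶ s.pt.right => f.hom a) (Under.w (s.ι.app (idx 0)))
  · intro s i
    ext z
    exact hd s i z
  · intro s m hm
    ext b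
    change m.right.hom b = d s b
    conv_lhs => rw [← hel b]
    exact congrArg (fun f : (diagram G B).obj (idx b) ⟶ s.pt => f.right.hom (el b)) (hm (idx b))

include hmap in
theorem isFiltered (hc : AllCovered G B) : IsFiltered (Idx G B) := by
  haveI : Nonempty (Idx G B) := ⟨(hc ∅).choose⟩
  haveI : IsDirectedOrder (Idx G B) := ⟨fun i j => exists_ge_with hmap hc i j⟩
  infer_instance

theorem finitePresentation (i : Idx G B) :
    ((diagram G B).obj i).hom.hom.FinitePresentation :=
  RingHom.finitePresentation_algebraMap.mpr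
    (Algebra.FinitePresentation.quotient i.fg)

end Colimit

end Groth.Agent.H75.UH.Approx
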