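import Groth.Agent.H75.UH.Good
import Mathlib.RingTheory.Adjoin.Basic
import Mathlib.RingTheory.IntegralClosure.IsIntegralClosure.Basic

/-!
A proper integral radicial extension contains an elementary step.
-/

universe u

namespace Groth.Agent.H75.UH

variable {A B : Type u} [CommRing A] [CommRing B]

/-- The finite case. -/
theorem exists_step_of_finite (φ : A →+* B) (hinj : Function.Injective φ)
    (hns : ¬ Function.Surjective φ) (hfin : φ.Finite) (hrad : Radicial φ) :
    (∃ b, b ∉ φ.range ∧ b ^ 2 ∈ φ.range ∧ b ^ 3 ∈ φ.range) ∨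
      (¬ TrivRad φ ∧ ∃ (l : ℕ) (b : B), l.Prime ∧ b ∉ φ.range ∧
        (l : B) * b ∈ φ.range ∧ b ^ l ∈ φ.range) := by
  classical
  let J : Ideal B :=
    { carrier := {y | ∀ b, y * b ∈ φ.range}
      add_mem' := fun hy hz b => by rw [add_mul]; exact add_mem (hy b) (hz b)
      zero_mem' := fun b => by simp
      smul_mem' := fun c y hy b => by
        rw [smul_eq_mul, mul_comm c y, mul_assoc]; exact hy _ }
  have hJ : ∀ y ∈ J, y ∈ φ.range := fun y hy => by simpa using hy 1
  have hI : J.comap φ ≠ ⊤ := fun h => hns fun b => by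
    have h1 : φ 1 ∈ J := by rw [← Ideal.mem_comap, h]; trivial
    simpa using h1 b
  obtain ⟨p, hp⟩ := Ideal.nonempty_minimalPrimes hI
  haveI := hp.1.1
  have hint : φ.IsIntegral := hfin.to_isIntegral
  obtain ⟨⟨q, hqprime⟩, hq⟩ := comap_surjective_of_injective hinj hint ⟨p, hp.1.1⟩
  haveI := hqprime
  have hqp : q.comap φ = p := congrArg PrimeSpectrum.asIdeal hq
  have key : ∀ x ∈ q, ∃ s ∉ p, ∃ n : ℕ, φ s * x ^ n ∈ J := by
    intro x hx
    by_contra! hcon
    let M : Submonoid B :=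
      { carrier := {y | ∃ s ∉ p, ∃ n : ℕ, y = φ s * x ^ n}
        one_mem' := ⟨1, one_not_mem, 0, by simp⟩
        mul_mem' := fun {y z} ⟨s, hs, n, hy⟩ ⟨t, ht, m, hz⟩ => ⟨s * t,
          fun h => ((‹p.IsPrime›).mem_or_mem h).elim hs ht, n + m, by
            rw [hy, hz, map_mul, pow_add]; ring⟩ }
    have hdisj : Disjoint (J : Set B) M := by
      rw [Set.disjoint_left]
      rintro y hy ⟨s, hs, n, rfl⟩
      exact hcon s hs n hy
    obtain ⟨P, hP, hJP, hPM⟩ := Ideal.exists_le_prime_disjoint J M hdisj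
    have hle : P.comap φ ≤ p := fun a ha => by
      by_contra hap
      exact Set.disjoint_left.mp hPM ha ⟨a, hap, 0, by simp⟩
    have heq : P.comap φ = p :=
      le_antisymm hle (hp.2 ⟨Ideal.comap_isPrime φ P, Ideal.comap_mono hJP⟩ hle)
    obtain rfl := hrad.eq_of_comap (heq.trans hqp.symm)
    exact Set.disjoint_left.mp hPM hx ⟨1, one_not_mem, 1, by simp⟩
  have mul_nm : ∀ {u v : A}, u ∉ p → v ∉ p → u * v ∉ p :=
    fun hu hv h => ((‹p.IsPrime›).mem_or_mem h).elim hu hv
  let Out : B → Prop := fun b => ∀ u ∉ p, φ u * b ∉ φ.range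
  by_cases ha : ∃ x ∈ q, Out x
  · left
    obtain ⟨x, hxq, hx⟩ := ha
    obtain ⟨s, hs, n, hn⟩ := key x hxq
    have hlarge : ∀ m ≥ n, ∃ u ∉ p, φ u * x ^ m ∈ φ.range := fun m hm => ⟨s, hs, by
      obtain ⟨d, rfl⟩ := Nat.exists_eq_add_of_le hm
      rw [pow_add, ← mul_assoc]
      exact hn _⟩
    have hn1 : 1 ≤ n := by
      by_contra h
      obtain ⟨u, hu, hu'⟩ := hlarge 1 (by omega)
      exact hx u hu (by simpa using hu')
    let m := Nat.findGreatest (fun k => Out (x ^ k)) n
    have hm : Out (x ^ m) :=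
      Nat.findGreatest_spec (P := fun k => Out (x ^ k)) hn1 (by simpa using hx)
    have hm1 : 1 ≤ m :=
      Nat.le_findGreatest (P := fun k => Out (x ^ k)) hn1 (by simpa using hx)
    have hbig : ∀ k, m < k → ∃ u ∉ p, φ u * x ^ k ∈ φ.range := by
      intro k hk
      by_cases hkn : k ≤ n
      · have := Nat.findGreatest_is_greatest (P := fun k => Out (x ^ k)) hk hkn
        simp only [Out] at this
        push Not at this
        exact this
      · exact hlarge k (by omega)
    obtain ⟨u, hu, hu2⟩ := hbig (2 * m) (by omega)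
    obtain ⟨v, hv, hv3⟩ := hbig (3 * m) (by omega)
    refine ⟨φ (u * v) * x ^ m, hm _ (mul_nm hu hv), ?_, ?_⟩
    · have : (φ (u * v) * x ^ m) ^ 2 = φ (u * v ^ 2) * (φ u * x ^ (2 * m)) := by
        simp only [map_mul, map_pow]; ring
      rw [this]
      exact mul_mem ⟨_, rfl⟩ hu2
    · have : (φ (u * v) * x ^ m) ^ 3 = φ (u ^ 3 * v ^ 2) * (φ v * x ^ (3 * m)) := by
        simp only [map_mul, map_pow]; ring
      rw [this]
      exact mul_mem ⟨_, rfl⟩ hv3
  · right
    simp only [Out] at ha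
    push Not at ha
    have hb : ∃ b, Out b := by
      by_contra! hcon
      simp only [Out] at hcon
      push Not at hcon
      letI := φ.toAlgebra
      haveI : Module.Finite A B := hfin
      obtain ⟨S, hS⟩ := Module.Finite.fg_top (R := A) (M := B)
      have : ∃ u ∉ p, ∀ b ∈ S, φ u * b ∈ φ.range := by
        clear hS
        induction S using Finset.induction with
        | empty => exact ⟨1, one_not_mem, by simp⟩
        | @insert b S _ ih =>
          obtain ⟨u, hu, hS⟩ := ih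
          obtain ⟨v, hv, hb⟩ := hcon b
          refine ⟨u * v, mul_nm hu hv, fun c hc => ?_⟩
          rcases Finset.mem_insert.mp hc with rfl | hc
          · rw [map_mul, mul_assoc]; exact mul_mem ⟨_, rfl⟩ hb
          · rw [map_mul, mul_comm (φ u), mul_assoc]; exact mul_mem ⟨_, rfl⟩ (hS c hc)
      obtain ⟨u, hu, hall⟩ := this
      refine hu (hp.1.2 (Ideal.mem_comap.mpr fun b => ?_))
      have hb : b ∈ Submodule.span A (S : Set B) := by rw [hS]; trivial
      induction hb using Submodule.span_induction with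
      | mem c hc => exact hall c hc
      | zero => simp
      | add c d _ _ hc hd => rw [mul_add]; exact add_mem hc hd
      | smul r c _ hc =>
        rw [Algebra.smul_def, RingHom.algebraMap_toAlgebra, mul_left_comm]
        exact mul_mem ⟨_, rfl⟩ hc
    obtain ⟨b, hb⟩ := hb
    -- elements with residue in `κ(p)` are not out
    have notOut : ∀ c : B, URes φ p c → ∃ u ∉ p, φ u * c ∈ φ.range := by
      rintro c ⟨s, a, hs, hall⟩
      obtain ⟨t, ht, htm⟩ := ha _ (hall q hqprime hqp)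
      refine ⟨t * s, mul_nm ht hs, ?_⟩
      have : φ (t * s) * c = φ t * (φ s * c - φ a) + φ (t * a) := by
        simp only [map_mul]; ring
      rw [this]
      exact add_mem htm ⟨_, rfl⟩
    have hnb : ¬ URes φ p b := fun h => by
      obtain ⟨u, hu, hu'⟩ := notOut b h
      exact hb u hu hu'
    refine ⟨fun h => hnb (h p hp.1.1 b), ?_⟩
    rcases hrad p hp.1.1 b with h | ⟨l, hl, hlp, hk⟩
    · exact absurd h hnb
    obtain ⟨k, hk, hkmin⟩ : ∃ k, URes φ p (b ^ l ^ k) ∧ ∀ j < k, ¬ URes φ p (b ^ l ^ j) :=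
      ⟨Nat.find hk, Nat.find_spec hk, fun j hj => Nat.find_min hk hj⟩
    obtain ⟨j, rfl⟩ : ∃ j, k = j + 1 := by
      cases k with
      | zero => exact absurd (by simpa using hk) hnb
      | succ j => exact ⟨j, rfl⟩
    let c := b ^ l ^ j
    have hc : Out c := fun u hu ⟨a, hua⟩ => hkmin j (Nat.lt_succ_self j)
      ⟨u, a, hu, fun q' _ _ => by rw [hua]; simp [c]⟩
    have hcl : URes φ p (c ^ l) := by
      simp only [c]
      rw [← pow_mul, ← pow_succ]
      exact hk
    obtain ⟨v, hv, hv'⟩ := notOut _ hcl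
    have hlc : (l : B) * c ∈ q := q.mul_mem_right _ (by
      rw [← map_natCast φ, ← Ideal.mem_comap, hqp]; exact hlp)
    obtain ⟨w, hw, hw'⟩ := ha _ hlc
    refine ⟨l, φ (v * w) * c, hl, hc _ (mul_nm hv hw), ?_, ?_⟩
    · have : (l : B) * (φ (v * w) * c) = φ v * (φ w * ((l : B) * c)) := by
        simp only [map_mul]; ring
      rw [this]
      exact mul_mem ⟨_, rfl⟩ hw'
    · obtain ⟨l', rfl⟩ : ∃ l', l = l' + 1 := ⟨l - 1, (Nat.succ_pred_eq_of_pos hl.pos).symm⟩
      have : (φ (v * w) * c) ^ (l' + 1) = φ (v ^ l' * w ^ (l' + 1)) * (φ v * c ^ (l' + 1)) := by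
        simp only [map_mul, map_pow, mul_pow, pow_succ]; ring
      rw [this]
      exact mul_mem ⟨_, rfl⟩ hv'

theorem exists_step (φ : A →+* B) (hinj : Function.Injective φ)
    (hns : ¬ Function.Surjective φ) (hint : φ.IsIntegral) (hrad : Radicial φ) :
    (∃ b, b ∉ φ.range ∧ b ^ 2 ∈ φ.range ∧ b ^ 3 ∈ φ.range) ∨
      (¬ TrivRad φ ∧ ∃ (l : ℕ) (b : B), l.Prime ∧ b ∉ φ.range ∧
        (l : B) * b ∈ φ.range ∧ b ^ l ∈ φ.range) := by
  rw [Function.Surjective] at hns
  push Not at hns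
  obtain ⟨b₀, hb₀⟩ := hns
  letI := φ.toAlgebra
  let B' : Subalgebra A B := Algebra.adjoin A {b₀}
  have hgood : good A B = ⊤ := (good_eq_top_iff A B).mpr ⟨hint, hrad⟩
  have hrad' : Radicial (algebraMap A B') :=
    ((good_eq_top_iff A B').mp
      (good_eq_top_of_injective B'.val Subtype.val_injective hgood)).2
  have hfin : (algebraMap A B').Finite := by
    rw [RingHom.finite_algebraMap]
    exact Module.Finite.iff_fg.mpr (IsIntegral.fg_adjoin_singleton (hint b₀))
  have hinj' : Function.Injective (algebraMap A B') :=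
    fun x y h => hinj (congrArg Subtype.val h)
  have hns' : ¬ Function.Surjective (algebraMap A B') := fun h => by
    obtain ⟨a, ha⟩ := h ⟨b₀, Algebra.self_mem_adjoin_singleton A b₀⟩
    exact hb₀ a (congrArg Subtype.val ha)
  have hrange : ∀ x : B', x ∈ (algebraMap A B').range ↔ (x : B) ∈ φ.range := fun x =>
    ⟨fun ⟨a, ha⟩ => ⟨a, congrArg Subtype.val ha⟩, fun ⟨a, ha⟩ => ⟨a, Subtype.ext ha⟩⟩
  rcases exists_step_of_finite _ hinj' hns' hfin hrad' with
    ⟨b, h1, h2, h3⟩ | ⟨hnt, l, b, hl, h1, h2, h3⟩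
  · rw [hrange] at h1 h2 h3
    exact Or.inl ⟨b, h1, by simpa using h2, by simpa using h3⟩
  · refine Or.inr ⟨fun ht => hnt ((trivGood_eq_top_iff A B').mp (trivGood_eq_top_of_injective
      B'.val Subtype.val_injective ((trivGood_eq_top_iff A B).mpr ⟨hint, ht⟩))).2, l, b, hl, ?_⟩
    rw [hrange] at h1 h2 h3
    exact ⟨h1, by simpa using h2, by simpa using h3⟩

/-- A step-closed subalgebra of an integral radicial algebra is everything. -/
theorem eq_top_of_stepClosed [Algebra A B] (hgood : good A B = ⊤) {S : Subalgebra A B}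
    (hS : StepClosed PStep S) : S = ⊤ := by
  obtain ⟨hint, hrad⟩ := (good_eq_top_iff A B).mp hgood
  rw [eq_top_iff]
  intro b _
  by_contra hb
  have hns : ¬ Function.Surjective (algebraMap S B) := fun h => by
    obtain ⟨a, ha⟩ := h b
    exact hb (ha ▸ a.2)
  have hint' : (algebraMap S B).IsIntegral := fun x => IsIntegral.tower_top (R := A) (hint x)
  have hrad' : Radicial (algebraMap S B) := fun P hP c =>
    (hrad _ (Ideal.comap_isPrime (algebraMap A S) P) c).changeBase fun _ => rfl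
  rcases exists_step (algebraMap S B) Subtype.val_injective hns hint' hrad' with
    ⟨c, h1, ⟨a2, h2⟩, ⟨a3, h3⟩⟩ | ⟨-, l, c, hl, h1, ⟨a2, h2⟩, ⟨a3, h3⟩⟩
  · exact h1 ⟨⟨c, hS c (Or.inl ⟨h2 ▸ a2.2, h3 ▸ a3.2⟩)⟩, rfl⟩
  · exact h1 ⟨⟨c, hS c (Or.inr ⟨l, hl, h2 ▸ a2.2, h3 ▸ a3.2⟩)⟩, rfl⟩

theorem eq_top_of_stepClosed_triv [Algebra A B] (hgood : trivGood A B = ⊤) {S : Subalgebra A B}
    (hS : StepClosed SqCube S) : S = ⊤ := by
  obtain ⟨hint, hrad⟩ := (trivGood_eq_top_iff A B).mp hgood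
  rw [eq_top_iff]
  intro b _
  by_contra hb
  have hns : ¬ Function.Surjective (algebraMap S B) := fun h => by
    obtain ⟨a, ha⟩ := h b
    exact hb (ha ▸ a.2)
  have hint' : (algebraMap S B).IsIntegral := fun x => IsIntegral.tower_top (R := A) (hint x)
  have hrad' : TrivRad (algebraMap S B) := fun P hP c =>
    (hrad _ (Ideal.comap_isPrime (algebraMap A S) P) c).changeBase fun _ => rfl
  rcases exists_step (algebraMap S B) Subtype.val_injective hns hint' hrad'.radicial with
    ⟨c, h1, ⟨a2, h2⟩, ⟨a3, h3⟩⟩ | ⟨hn, -⟩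
  · exact h1 ⟨⟨c, hS c ⟨h2 ▸ a2.2, h3 ▸ a3.2⟩⟩, rfl⟩
  · exact hn hrad'

end Groth.Agent.H75.UH
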