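import Groth.Agent.H75.UH.Tower
import Mathlib.AlgebraicGeometry.Morphisms.UnderlyingMap

/-!
Descending membership in `good`; dominance.
-/

open CategoryTheory AlgebraicGeometry

universe u

namespace Groth.Agent.H75.UH

variable {A B C : Type u} [CommRing A] [CommRing B] [CommRing C] [Algebra A B] [Algebra A C]

theorem isIntegral_of_injective (f : B →ₐ[A] C) (hf : Function.Injective f)
    (hC : (algebraMap A C).IsIntegral) :
    f.toRingHom.IsIntegral ∧ (algebraMap A B).IsIntegral := by
  refine ⟨RingHom.IsIntegral.tower_top (algebraMap A B) _ ?_, fun b =>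
    (isIntegral_algHom_iff f hf).mp (hC (f b))⟩
  rw [show f.toRingHom.comp (algebraMap A B) = algebraMap A C from RingHom.ext f.commutes]
  exact hC

theorem mem_good_of_map (f : B →ₐ[A] C) (hf : Function.Injective f)
    (hC : (algebraMap A C).IsIntegral) {b : B} (h : f b ∈ good A C) : b ∈ good A B :=
  ⟨(isIntegral_algHom_iff f hf).mp h.1, fun p hp => (h.2 p hp).of_map (i := f.toRingHom) f.commutes
    (comap_surjective_of_injective hf (isIntegral_of_injective f hf hC).1)⟩

theorem mem_trivGood_of_map (f : B →ₐ[A] C) (hf : Function.Injective f)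
    (hC : (algebraMap A C).IsIntegral) {b : B} (h : f b ∈ trivGood A C) : b ∈ trivGood A B :=
  ⟨(isIntegral_algHom_iff f hf).mp h.1, fun p hp => (h.2 p hp).of_map (i := f.toRingHom) f.commutes
    (comap_surjective_of_injective hf (isIntegral_of_injective f hf hC).1)⟩

theorem ker_le_nilradical_of_dominant {φ : A →+* B}
    [h : IsDominant (Spec.map (CommRingCat.ofHom φ))] : RingHom.ker φ ≤ nilradical A :=
  (PrimeSpectrum.denseRange_comap_iff_ker_le_nilRadical φ).mp h.denseRange

theorem isUnivHomeo_algebraMap_iff :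
    FlatMor.IsUnivHomeo (Spec.map (CommRingCat.ofHom (algebraMap A B))) ↔
      RingHom.ker (algebraMap A B) ≤ nilradical A ∧ good A B = ⊤ := by
  rw [isUnivHomeo_iff, good_eq_top_iff]
  tauto

theorem isUnivHomeo_residue_algebraMap_iff :
    (FlatMor.IsUnivHomeo (Spec.map (CommRingCat.ofHom (algebraMap A B))) ∧
      ∀ x : Spec (CommRingCat.of B),
        Function.Surjective ((Spec.map (CommRingCat.ofHom (algebraMap A B))).residueFieldMap x)) ↔
      RingHom.ker (algebraMap A B) ≤ nilradical A ∧ trivGood A B = ⊤ := by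
  rw [isUnivHomeo_residue_iff, trivGood_eq_top_iff]
  tauto

theorem ker_le_nilradical_of_fields {φ : A →+* B}
    (h : ∀ p : Ideal A, ∀ _ : p.IsPrime, ∃ (K : Type u) (_ : Field K) (ψ : B →+* K),
      RingHom.ker (ψ.comp φ) = p) : RingHom.ker φ ≤ nilradical A := by
  rw [nilradical_eq_sInf]
  refine le_sInf fun p hp => ?_
  obtain ⟨K, _, ψ, hψ⟩ := h p hp
  rw [← hψ]
  intro a ha
  simp [RingHom.mem_ker.mp ha]

end Groth.Agent.H75.UH
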