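import Mathlib.AlgebraicGeometry.Morphisms.UniversallyInjective
import Mathlib.AlgebraicGeometry.Morphisms.Integral
import Mathlib.RingTheory.Ideal.GoingUp
import Groth.Agent.Lib.UnivHomeo.Basic

/-!
Ring-theoretic description of radicial morphisms `Spec B → Spec A` and of morphisms with trivial
residue field extensions: element-wise predicates `URes`, `UPI`.
-/

open CategoryTheory AlgebraicGeometry

universe u

namespace Groth.Agent.H75.UH

variable {A B C : Type u} [CommRing A] [CommRing B] [CommRing C]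

/-- `b` has, uniformly at all primes over `p`, its residue in `κ(p)`. -/
def URes (φ : A →+* B) (p : Ideal A) (b : B) : Prop :=
  ∃ s a : A, s ∉ p ∧ ∀ q : Ideal B, q.IsPrime → q.comap φ = p → φ s * b - φ a ∈ q

/-- `b` has, uniformly at all primes over `p`, residue purely inseparable over `κ(p)`. -/
def UPI (φ : A →+* B) (p : Ideal A) (b : B) : Prop :=
  URes φ p b ∨ ∃ l : ℕ, l.Prime ∧ (l : A) ∈ p ∧ ∃ k : ℕ, URes φ p (b ^ l ^ k)

/-- All elements have trivial residues over every prime. -/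
def TrivRad (φ : A →+* B) : Prop := ∀ p : Ideal A, p.IsPrime → ∀ b : B, URes φ p b

/-- The ring version of universally injective. -/
def Radicial (φ : A →+* B) : Prop := ∀ p : Ideal A, p.IsPrime → ∀ b : B, UPI φ p b

theorem TrivRad.radicial {φ : A →+* B} (h : TrivRad φ) : Radicial φ :=
  fun p hp b => Or.inl (h p hp b)

theorem URes.mem_iff {φ : A →+* B} {p : Ideal A} [hp : p.IsPrime] {b : B} (h : URes φ p b)
    {q q' : Ideal B} [q.IsPrime] [q'.IsPrime] (hq : q.comap φ = p) (hq' : q'.comap φ = p)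
    (hb : b ∈ q) : b ∈ q' := by
  obtain ⟨s, a, hs, hall⟩ := h
  have ha : φ a ∈ q := by
    have := q.sub_mem (q.mul_mem_left (φ s) hb) (hall q ‹_› hq)
    simpa using this
  have ha' : φ a ∈ q' := by
    rw [← Ideal.mem_comap, hq', ← hq]
    exact ha
  have hsb : φ s * b ∈ q' := by
    have := q'.add_mem (hall q' ‹_› hq') ha'
    simpa using this
  exact ((‹q'.IsPrime›).mem_or_mem hsb).resolve_left fun h' => hs (hq' ▸ h')

theorem UPI.mem_iff {φ : A →+* B} {p : Ideal A} [hp : p.IsPrime] {b : B} (h : UPI φ p b)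
    {q q' : Ideal B} [q.IsPrime] [q'.IsPrime] (hq : q.comap φ = p) (hq' : q'.comap φ = p)
    (hb : b ∈ q) : b ∈ q' := by
  rcases h with h | ⟨l, hl, -, k, h⟩
  · exact h.mem_iff hq hq' hb
  · refine (‹q'.IsPrime›).mem_of_pow_mem (l ^ k) (h.mem_iff hq hq' ?_)
    exact q.pow_mem_of_mem hb _ (pow_pos hl.pos _)

theorem Radicial.eq_of_comap {φ : A →+* B} (h : Radicial φ) {q q' : Ideal B} [q.IsPrime]
    [q'.IsPrime] (he : q.comap φ = q'.comap φ) : q = q' := by
  have := (inferInstance : q.IsPrime)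
  have hp : (q.comap φ).IsPrime := Ideal.comap_isPrime φ q
  exact le_antisymm (fun b hb => (h _ hp b).mem_iff rfl he.symm hb)
    fun b hb => (h _ hp b).mem_iff he.symm rfl hb

theorem Radicial.comap_injective {φ : A →+* B} (h : Radicial φ) :
    Function.Injective (PrimeSpectrum.comap φ) := fun q q' he =>
  PrimeSpectrum.ext (h.eq_of_comap (congrArg PrimeSpectrum.asIdeal he))

section Bridge

variable (φ : A →+* B)

/-- The evaluation map to the residue field. -/
noncomputable def ev (x : Spec (CommRingCat.of B)) : B →+* (Spec (CommRingCat.of B)).residueField x :=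
  (CommRingCat.ofHom (algebraMap B x.asIdeal.ResidueField) ≫
    (Scheme.Spec.residueFieldIso (CommRingCat.of B) x).inv).hom

theorem ev_eq_zero {x : Spec (CommRingCat.of B)} {b : B} : ev x b = 0 ↔ b ∈ x.asIdeal := by
  rw [← Ideal.algebraMap_residueField_eq_zero (I := x.asIdeal) (x := b)]
  change ((Scheme.Spec.residueFieldIso (CommRingCat.of B) x).inv).hom
    (algebraMap B x.asIdeal.ResidueField b) = 0 ↔ _
  exact map_eq_zero_iff _
    (ConcreteCategory.bijective_of_isIso
      (Scheme.Spec.residueFieldIso (CommRingCat.of B) x).inv).injective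

theorem ev_surj (x : Spec (CommRingCat.of B)) (z : (Spec (CommRingCat.of B)).residueField x) :
    ∃ b t : B, t ∉ x.asIdeal ∧ z * ev x t = ev x b := by
  let e := Scheme.Spec.residueFieldIso (CommRingCat.of B) x
  obtain ⟨b', t', ht', h⟩ := IsFractionRing.div_surjective (B ⧸ x.asIdeal) (e.hom.hom z)
  obtain ⟨b, rfl⟩ := Ideal.Quotient.mk_surjective b'
  obtain ⟨t, rfl⟩ := Ideal.Quotient.mk_surjective t'
  have ht : t ∉ x.asIdeal := fun hm => by
    rw [Ideal.Quotient.eq_zero_iff_mem.mpr hm] at ht'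
    exact nonZeroDivisors.ne_zero ht' rfl
  refine ⟨b, t, ht, ?_⟩
  apply (ConcreteCategory.bijective_of_isIso e.hom).injective
  change e.hom.hom (z * ev x t) = e.hom.hom (ev x b)
  have he : ∀ w, e.hom.hom (ev x w) = algebraMap B x.asIdeal.ResidueField w := fun w => by
    change (CommRingCat.ofHom (algebraMap B x.asIdeal.ResidueField) ≫ e.inv ≫ e.hom).hom w = _
    simp
  rw [map_mul, he, he, ← h]
  simp only [Ideal.algebraMap_quotient_residueField_mk]
  rw [div_mul_cancel₀]
  rwa [ne_eq, Ideal.algebraMap_residueField_eq_zero]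

theorem residueFieldMap_ev (x : Spec (CommRingCat.of B)) (a : A) :
    (Spec.map (CommRingCat.ofHom φ)).residueFieldMap x
      (ev ((Spec.map (CommRingCat.ofHom φ)) x) a) = ev x (φ a) := by
  let f := CommRingCat.ofHom φ
  have key : (CommRingCat.ofHom (algebraMap A ((Spec.map f) x).asIdeal.ResidueField) ≫
      (Scheme.Spec.residueFieldIso (CommRingCat.of A) ((Spec.map f) x)).inv) ≫
      (Spec.map f).residueFieldMap x =
      f ≫ CommRingCat.ofHom (algebraMap B x.asIdeal.ResidueField) ≫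
      (Scheme.Spec.residueFieldIso (CommRingCat.of B) x).inv := by
    have h1 := Scheme.Spec.algebraMap_residueFieldIso_inv (CommRingCat.of A) ((Spec.map f) x)
    have h2 := Scheme.Spec.algebraMap_residueFieldIso_inv (CommRingCat.of B) x
    dsimp only at h1 h2
    rw [h1, h2]
    change ((Scheme.ΓSpecIso (CommRingCat.of A)).inv ≫ (Spec (CommRingCat.of A)).Γevaluation _) ≫
      (Spec.map f).residueFieldMap x = f ≫ (Scheme.ΓSpecIso (CommRingCat.of B)).inv ≫
      (Spec (CommRingCat.of B)).Γevaluation x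
    rw [Category.assoc, Scheme.Γevaluation_naturality, Scheme.ΓSpecIso_inv_naturality_assoc]
  exact congrArg (fun g => g.hom a) key

theorem ev_mem_range_iff (x : Spec (CommRingCat.of B)) (b : B) :
    ev x b ∈ ((Spec.map (CommRingCat.ofHom φ)).residueFieldMap x).hom.range ↔
      ∃ s a : A, φ s ∉ x.asIdeal ∧ φ s * b - φ a ∈ x.asIdeal := by
  constructor
  · rintro ⟨z, hz⟩
    obtain ⟨a, s, hs, h⟩ := ev_surj _ z
    refine ⟨s, a, hs, ?_⟩
    have := congrArg ((Spec.map (CommRingCat.ofHom φ)).residueFieldMap x).hom h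
    rw [map_mul, hz, residueFieldMap_ev, residueFieldMap_ev] at this
    rw [← ev_eq_zero, map_sub, map_mul, sub_eq_zero, mul_comm]
    exact this
  · rintro ⟨s, a, hs, h⟩
    refine ⟨ev _ a / ev _ s, ?_⟩
    rw [← ev_eq_zero, map_sub, map_mul, sub_eq_zero] at h
    rw [map_div₀, residueFieldMap_ev, residueFieldMap_ev, ← h, mul_div_cancel_left₀]
    rwa [ne_eq, ev_eq_zero]

theorem trivRad_of (hinj : Function.Injective (PrimeSpectrum.comap φ))
    (h : ∀ x : Spec (CommRingCat.of B),
      Function.Surjective ((Spec.map (CommRingCat.ofHom φ)).residueFieldMap x)) :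
    TrivRad φ := by
  intro p hp b
  by_cases hq : ∃ q : Ideal B, q.IsPrime ∧ q.comap φ = p
  · obtain ⟨q, hq, hqp⟩ := hq
    obtain ⟨s, a, hs, hm⟩ := (ev_mem_range_iff φ ⟨q, hq⟩ b).mp (h _ _)
    refine ⟨s, a, fun hsp => hs (by rw [← hqp] at hsp; exact hsp), fun q' hq' hq'p => ?_⟩
    have : (⟨q', hq'⟩ : PrimeSpectrum B) = ⟨q, hq⟩ :=
      hinj (PrimeSpectrum.ext (by simpa using hq'p.trans hqp.symm))
    obtain rfl : q' = q := congrArg PrimeSpectrum.asIdeal this
    exact hm
  · exact ⟨1, 0, fun h1 => hp.ne_top ((Ideal.eq_top_iff_one p).mpr h1),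
      fun q hq' hqp => (hq ⟨q, hq', hqp⟩).elim⟩

theorem TrivRad.surjective_residueFieldMap {φ : A →+* B} (h : TrivRad φ)
    (x : Spec (CommRingCat.of B)) :
    Function.Surjective ((Spec.map (CommRingCat.ofHom φ)).residueFieldMap x) := by
  intro z
  obtain ⟨b, t, ht, hz⟩ := ev_surj x z
  have key : ∀ c : B, ev x c ∈ ((Spec.map (CommRingCat.ofHom φ)).residueFieldMap x).hom.range := by
    intro c
    obtain ⟨s, a, hs, hall⟩ := h (x.asIdeal.comap φ) (Ideal.comap_isPrime φ _) c
    exact (ev_mem_range_iff φ x c).mpr ⟨s, a, hs, hall x.asIdeal x.isPrime rfl⟩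
  obtain ⟨u, hu⟩ := key b
  obtain ⟨v, hv⟩ := key t
  refine ⟨u / v, ?_⟩
  have ht' : ev x t ≠ 0 := by rwa [ne_eq, ev_eq_zero]
  change ((Spec.map (CommRingCat.ofHom φ)).residueFieldMap x).hom (u / v) = z
  rw [map_div₀, hu, hv, ← hz, mul_div_cancel_right₀ _ ht']

theorem radicial_of_universallyInjective
    (h : UniversallyInjective (Spec.map (CommRingCat.ofHom φ))) : Radicial φ := by
  obtain ⟨hinj, hpi⟩ := ((tfae_universallyInjective _).out 0 2 rfl rfl).mp h
  intro p hp b
  by_cases hq : ∃ q : Ideal B, q.IsPrime ∧ q.comap φ = p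
  · obtain ⟨q, hq, hqp⟩ := hq
    have conv : ∀ c : B, ev (B := B) ⟨q, hq⟩ c ∈
        ((Spec.map (CommRingCat.ofHom φ)).residueFieldMap ⟨q, hq⟩).hom.range → URes φ p c := by
      intro c hc
      obtain ⟨s, a, hs, hm⟩ := (ev_mem_range_iff φ ⟨q, hq⟩ c).mp hc
      refine ⟨s, a, fun hsp => hs (by rw [← hqp] at hsp; exact hsp), fun q' hq' hq'p => ?_⟩
      have : (⟨q', hq'⟩ : PrimeSpectrum B) = ⟨q, hq⟩ :=
        hinj (PrimeSpectrum.ext (by simpa [Spec.map_apply] using hq'p.trans hqp.symm))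
      obtain rfl : q' = q := congrArg PrimeSpectrum.asIdeal this
      exact hm
    have hx := hpi ⟨q, hq⟩
    let g := ((Spec.map (CommRingCat.ofHom φ)).residueFieldMap ⟨q, hq⟩).hom
    letI := g.toAlgebra
    have : IsPurelyInseparable ((Spec (CommRingCat.of A)).residueField
        ((Spec.map (CommRingCat.ofHom φ)) ⟨q, hq⟩))
        ((Spec (CommRingCat.of B)).residueField ⟨q, hq⟩) := hx
    obtain ⟨e, he⟩ := ExpChar.exists
      ((Spec (CommRingCat.of A)).residueField ((Spec.map (CommRingCat.ofHom φ)) ⟨q, hq⟩))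
    haveI := he
    obtain ⟨n, hn⟩ := IsPurelyInseparable.pow_mem
      ((Spec (CommRingCat.of A)).residueField ((Spec.map (CommRingCat.ofHom φ)) ⟨q, hq⟩)) e
      (ev (B := B) ⟨q, hq⟩ b)
    rw [← map_pow] at hn
    have hres := conv _ hn
    by_cases he1 : e = 1
    · subst he1
      exact Or.inl (by simpa using hres)
    · have hprime : e.Prime := (expChar_is_prime_or_one
        ((Spec (CommRingCat.of A)).residueField ((Spec.map (CommRingCat.ofHom φ)) ⟨q, hq⟩))
        e).resolve_right he1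
      refine Or.inr ⟨e, hprime, ?_, n, hres⟩
      rw [← hqp]
      have h0 : ev ((Spec.map (CommRingCat.ofHom φ)) ⟨q, hq⟩) (e : A) = 0 := by
        rw [map_natCast]
        cases he with
        | zero => exact absurd rfl he1
        | prime _ => exact CharP.cast_eq_zero _ e
      exact ev_eq_zero.mp h0
  · exact Or.inl ⟨1, 0, fun h1 => hp.ne_top ((Ideal.eq_top_iff_one p).mpr h1),
      fun q hq' hqp => (hq ⟨q, hq', hqp⟩).elim⟩

theorem Radicial.universallyInjective {φ : A →+* B} (h : Radicial φ) :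
    UniversallyInjective (Spec.map (CommRingCat.ofHom φ)) := by
  refine ((tfae_universallyInjective _).out 2 0 rfl rfl).mp ⟨?_, fun x => ?_⟩
  · exact h.comap_injective
  let p := x.asIdeal.comap φ
  have hp : p.IsPrime := Ideal.comap_isPrime φ _
  let F := (Spec (CommRingCat.of A)).residueField ((Spec.map (CommRingCat.ofHom φ)) x)
  let g := ((Spec.map (CommRingCat.ofHom φ)).residueFieldMap x).hom
  obtain ⟨e, he⟩ := ExpChar.exists F
  haveI := he
  have conv : ∀ c : B, URes φ p c → ev x c ∈ g.range := fun c ⟨s, a, hs, hall⟩ =>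
    (ev_mem_range_iff φ x c).mpr ⟨s, a, hs, hall x.asIdeal x.isPrime rfl⟩
  have key : ∀ c : B, ∃ n : ℕ, ev x c ^ e ^ n ∈ g.range := by
    intro c
    rcases h p hp c with hc | ⟨l, hl, hlp, k, hc⟩
    · exact ⟨0, by simpa using conv c hc⟩
    · have hl0 : (l : F) = 0 := by
        have : ev ((Spec.map (CommRingCat.ofHom φ)) x) (l : A) = 0 := ev_eq_zero.mpr hlp
        rwa [map_natCast] at this
      have hel : e = l := by
        cases he with
        | zero => exact absurd (Nat.cast_eq_zero.mp hl0) hl.ne_zero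
        | prime hq =>
          exact (Nat.prime_dvd_prime_iff_eq hq hl).mp ((CharP.cast_eq_zero_iff F e l).mp hl0)
      subst hel
      exact ⟨k, by rw [← map_pow]; exact conv _ hc⟩
  letI := g.toAlgebra
  change IsPurelyInseparable F ((Spec (CommRingCat.of B)).residueField x)
  rw [isPurelyInseparable_iff_pow_mem F e]
  intro z
  obtain ⟨b, t, ht, hz⟩ := ev_surj x z
  obtain ⟨m, hm⟩ := key b
  obtain ⟨n, hn⟩ := key t
  have ht' : ev x t ≠ 0 := by rwa [ne_eq, ev_eq_zero]
  refine ⟨m + n, ?_⟩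
  have hb : ev x b ^ e ^ (m + n) ∈ g.range := by
    rw [pow_add, pow_mul]; exact Subring.pow_mem _ hm _
  have htn : ev x t ^ e ^ (m + n) ∈ g.range := by
    rw [pow_add, mul_comm, pow_mul]; exact Subring.pow_mem _ hn _
  obtain ⟨u, hu⟩ := hb
  obtain ⟨v, hv⟩ := htn
  refine ⟨u / v, ?_⟩
  change g (u / v) = _
  rw [map_div₀, hu, hv, ← hz, mul_pow, mul_div_cancel_right₀ _ (pow_ne_zero _ ht')]

end Bridge

theorem universallyInjective_iff (φ : A →+* B) :
    UniversallyInjective (Spec.map (CommRingCat.ofHom φ)) ↔ Radicial φ :=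
  ⟨radicial_of_universallyInjective φ, Radicial.universallyInjective⟩

theorem universallyClosed_iff (φ : A →+* B) :
    UniversallyClosed (Spec.map (CommRingCat.ofHom φ)) ↔ φ.IsIntegral := by
  rw [show φ.IsIntegral ↔ IsIntegralHom (Spec.map (CommRingCat.ofHom φ)) from
    (IsIntegralHom.SpecMap_iff (φ := CommRingCat.ofHom φ)).symm,
    IsIntegralHom.iff_universallyClosed_and_isAffineHom]
  exact ⟨fun h => ⟨h, inferInstance⟩, fun h => h.1⟩

theorem surjective_iff_of_isIntegral {φ : A →+* B} (hφ : φ.IsIntegral) :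
    Surjective (Spec.map (CommRingCat.ofHom φ)) ↔ RingHom.ker φ ≤ nilradical A := by
  constructor
  · intro h
    rw [nilradical_eq_sInf]
    refine le_sInf fun p hp => ?_
    obtain ⟨x, hx⟩ := h.1 ⟨p, hp⟩
    have hx' : x.asIdeal.comap φ = p := congrArg PrimeSpectrum.asIdeal hx
    rw [← hx']
    intro a ha
    simp [Ideal.mem_comap, RingHom.mem_ker.mp ha]
  · intro h
    refine ⟨fun p => ?_⟩
    letI := φ.toAlgebra
    haveI : Algebra.IsIntegral A B := ⟨hφ⟩
    haveI := p.isPrime
    have hle : (⊥ : Ideal B).comap (algebraMap A B) ≤ p.asIdeal := by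
      rw [← RingHom.ker_eq_comap_bot]
      exact h.trans (nilradical_le_prime p.asIdeal)
    obtain ⟨q, -, hq, hqp⟩ := Ideal.exists_ideal_over_prime_of_isIntegral p.asIdeal ⊥ hle
    exact ⟨⟨q, hq⟩, PrimeSpectrum.ext hqp⟩

theorem isUnivHomeo_iff (φ : A →+* B) :
    FlatMor.IsUnivHomeo (Spec.map (CommRingCat.ofHom φ)) ↔
      φ.IsIntegral ∧ RingHom.ker φ ≤ nilradical A ∧ Radicial φ := by
  rw [Lib.UnivHomeo.Basic.iff_integral_universallyInjective_surjective,
    IsIntegralHom.SpecMap_iff, universallyInjective_iff, CommRingCat.hom_ofHom]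
  constructor
  · rintro ⟨hi, hr, hs⟩
    exact ⟨hi, (surjective_iff_of_isIntegral hi).mp hs, hr⟩
  · rintro ⟨hi, hk, hr⟩
    exact ⟨hi, hr, (surjective_iff_of_isIntegral hi).mpr hk⟩

theorem isUnivHomeo_residue_iff (φ : A →+* B) :
    (FlatMor.IsUnivHomeo (Spec.map (CommRingCat.ofHom φ)) ∧
      ∀ x : Spec (CommRingCat.of B),
        Function.Surjective ((Spec.map (CommRingCat.ofHom φ)).residueFieldMap x)) ↔
      φ.IsIntegral ∧ RingHom.ker φ ≤ nilradical A ∧ TrivRad φ := by
  constructor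
  · rintro ⟨h, hres⟩
    obtain ⟨hi, hk, hr⟩ := (isUnivHomeo_iff φ).mp h
    exact ⟨hi, hk, trivRad_of φ hr.comap_injective hres⟩
  · rintro ⟨hi, hk, hr⟩
    exact ⟨(isUnivHomeo_iff φ).mpr ⟨hi, hk, hr.radicial⟩, hr.surjective_residueFieldMap⟩

end Groth.Agent.H75.UH
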