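import Groth.Agent.H75.UH.Core

/-!
Towers of elementary extensions inside an algebra.
-/

universe u

namespace Groth.Agent.H75.UH

variable {A B : Type u} [CommRing A] [CommRing B] [Algebra A B]

/-- Monotone step predicates. -/
def StepMono (St : Subalgebra A B → B → Prop) : Prop :=
  ∀ ⦃S T⦄, S ≤ T → ∀ ⦃b⦄, St S b → St T b

theorem stepMono_sqCube : StepMono (SqCube : Subalgebra A B → B → Prop) :=
  fun _ _ h _ hb => ⟨h hb.1, h hb.2⟩

theorem stepMono_pStep : StepMono (PStep : Subalgebra A B → B → Prop) := by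
  intro S T h b hb
  rcases hb with hb | ⟨l, hl, h1, h2⟩
  · exact Or.inl (stepMono_sqCube h hb)
  · exact Or.inr ⟨l, hl, h h1, h h2⟩

/-- Subalgebras reached by a finite tower of steps. -/
inductive Reach (St : Subalgebra A B → B → Prop) : Subalgebra A B → Prop
  | bot : Reach St ⊥
  | step {S b} : Reach St S → St S b → Reach St (S ⊔ Algebra.adjoin A {b})

variable {St : Subalgebra A B → B → Prop}

theorem Reach.le_of_stepClosed (hm : StepMono St) {S T : Subalgebra A B} (h : Reach St S)
    (hT : StepClosed St T) : S ≤ T := by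
  induction h with
  | bot => exact bot_le
  | step _ hb ih =>
    exact sup_le ih (Algebra.adjoin_le (Set.singleton_subset_iff.mpr (hT _ (hm ih hb))))

theorem Reach.sup (hm : StepMono St) {S T : Subalgebra A B} (hS : Reach St S) (hT : Reach St T) :
    Reach St (S ⊔ T) := by
  induction hT with
  | bot => simpa using hS
  | step _ hb ih => rw [← sup_assoc]; exact ih.step (hm le_sup_right hb)

/-- The union of all towers. -/
def tower (hm : StepMono St) : Subalgebra A B where
  carrier := {b | ∃ S, Reach St S ∧ b ∈ S}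
  mul_mem' := fun ⟨S, hS, hb⟩ ⟨T, hT, hc⟩ =>
    ⟨S ⊔ T, hS.sup hm hT, mul_mem (le_sup_left (b := T) hb) (le_sup_right (a := S) hc)⟩
  add_mem' := fun ⟨S, hS, hb⟩ ⟨T, hT, hc⟩ =>
    ⟨S ⊔ T, hS.sup hm hT, add_mem (le_sup_left (b := T) hb) (le_sup_right (a := S) hc)⟩
  algebraMap_mem' a := ⟨⊥, Reach.bot, Subalgebra.algebraMap_mem _ a⟩

theorem exists_reach_of_mem_tower {hm : StepMono St} (E : Finset B)
    (h : ∀ b ∈ E, b ∈ tower hm) : ∃ S, Reach St S ∧ (↑E : Set B) ⊆ S := by
  classical
  induction E using Finset.induction with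
  | empty => exact ⟨⊥, Reach.bot, by simp⟩
  | @insert b E _ ih =>
    obtain ⟨S, hS, hES⟩ := ih fun c hc => h c (Finset.mem_insert_of_mem hc)
    obtain ⟨T, hT, hbT⟩ := h b (Finset.mem_insert_self b E)
    refine ⟨S ⊔ T, hS.sup hm hT, fun c hc => ?_⟩
    rcases Finset.mem_insert.mp (Finset.mem_coe.mp hc) with rfl | hc
    · exact le_sup_right (a := S) hbT
    · exact le_sup_left (b := T) (hES hc)

theorem stepClosed_tower_sqCube :
    StepClosed SqCube (tower (A := A) (B := B) stepMono_sqCube) := by
  classical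
  intro b ⟨h2, h3⟩
  obtain ⟨S, hS, hE⟩ := exists_reach_of_mem_tower (hm := stepMono_sqCube) {b ^ 2, b ^ 3}
    (fun c hc => by rcases Finset.mem_insert.mp hc with rfl | hc; exacts [h2, (Finset.mem_singleton.mp hc) ▸ h3])
  simp only [Finset.coe_insert, Finset.coe_singleton, Set.insert_subset_iff,
    Set.singleton_subset_iff, SetLike.mem_coe] at hE
  exact ⟨_, hS.step ⟨hE.1, hE.2⟩,
    le_sup_right (a := S) (Algebra.self_mem_adjoin_singleton A b)⟩

theorem stepClosed_tower_pStep :
    StepClosed PStep (tower (A := A) (B := B) stepMono_pStep) := by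
  classical
  intro b hb
  rcases hb with ⟨h2, h3⟩ | ⟨l, hl, h2, h3⟩
  · obtain ⟨S, hS, hE⟩ := exists_reach_of_mem_tower (hm := stepMono_pStep) {b ^ 2, b ^ 3}
      (fun c hc => by rcases Finset.mem_insert.mp hc with rfl | hc; exacts [h2, (Finset.mem_singleton.mp hc) ▸ h3])
    simp only [Finset.coe_insert, Finset.coe_singleton, Set.insert_subset_iff,
      Set.singleton_subset_iff, SetLike.mem_coe] at hE
    exact ⟨_, hS.step (Or.inl ⟨hE.1, hE.2⟩),
      le_sup_right (a := S) (Algebra.self_mem_adjoin_singleton A b)⟩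
  · obtain ⟨S, hS, hE⟩ := exists_reach_of_mem_tower (hm := stepMono_pStep) {(l : B) * b, b ^ l}
      (fun c hc => by rcases Finset.mem_insert.mp hc with rfl | hc; exacts [h2, (Finset.mem_singleton.mp hc) ▸ h3])
    simp only [Finset.coe_insert, Finset.coe_singleton, Set.insert_subset_iff,
      Set.singleton_subset_iff, SetLike.mem_coe] at hE
    exact ⟨_, hS.step (Or.inr ⟨l, hl, hE.1, hE.2⟩),
      le_sup_right (a := S) (Algebra.self_mem_adjoin_singleton A b)⟩

theorem exists_reach_sqCube (h : trivGood A B = ⊤) (E : Finset B) :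
    ∃ S : Subalgebra A B, Reach SqCube S ∧ (↑E : Set B) ⊆ S := by
  refine exists_reach_of_mem_tower (hm := stepMono_sqCube) E fun b _ => ?_
  rw [eq_top_of_stepClosed_triv h stepClosed_tower_sqCube]
  exact Algebra.mem_top

theorem exists_reach_pStep (h : good A B = ⊤) (E : Finset B) :
    ∃ S : Subalgebra A B, Reach PStep S ∧ (↑E : Set B) ⊆ S := by
  refine exists_reach_of_mem_tower (hm := stepMono_pStep) E fun b _ => ?_
  rw [eq_top_of_stepClosed h stepClosed_tower_pStep]
  exact Algebra.mem_top

section Lists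

/-- The condition on a list to be a tower. -/
def IsTowerList (St : Subalgebra A B → B → Prop) (l : List B) : Prop :=
  ∀ i : Fin l.length, St (Algebra.adjoin A {b : B | ∃ j : Fin l.length, j < i ∧ b = l.get j})
    (l.get i)

theorem setOf_get_lt (l : List B) (i : Fin l.length) :
    {b : B | ∃ j : Fin l.length, j < i ∧ b = l.get j} = {b | b ∈ l.take i.1} := by
  ext b
  simp only [Set.mem_ofPred_eq, List.mem_take_iff_getElem, List.get_eq_getElem]
  constructor
  · rintro ⟨j, hj, rfl⟩
    exact ⟨j.1, lt_min hj j.2, rfl⟩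
  · rintro ⟨j, hj, rfl⟩
    exact ⟨⟨j, (lt_min_iff.mp hj).2⟩, (lt_min_iff.mp hj).1, rfl⟩

theorem Reach.exists_list {S : Subalgebra A B} (h : Reach St S) :
    ∃ l : List B, S = Algebra.adjoin A {b | b ∈ l} ∧ IsTowerList St l := by
  induction h with
  | bot => exact ⟨[], by simp, fun i => Fin.elim0 i⟩
  | @step S b _ hb ih =>
    obtain ⟨l, rfl, hl⟩ := ih
    refine ⟨l ++ [b], ?_, fun i => ?_⟩
    · rw [← Algebra.adjoin_union]
      congr 1
      ext c
      simp [or_comm]
    · rw [setOf_get_lt]
      rcases lt_or_eq_of_le (Nat.le_of_lt_succ (by simpa using i.2 : i.1 < l.length + 1)) with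
        hi | hi
      · have := hl ⟨i.1, hi⟩
        rw [setOf_get_lt] at this
        rw [List.take_append_of_le_length hi.le]
        simpa [List.getElem_append_left hi] using this
      · rw [List.take_append_of_le_length hi.le, List.take_of_length_le hi.ge]
        simpa [hi] using hb

theorem IsTowerList.reach {l : List B} (hl : IsTowerList St l) :
    Reach St (Algebra.adjoin A {b | b ∈ l}) := by
  suffices ∀ n ≤ l.length, Reach St (Algebra.adjoin A {b | b ∈ l.take n}) by
    simpa using this l.length le_rfl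
  intro n
  induction n with
  | zero => intro _; simpa using Reach.bot
  | succ n ih =>
    intro hn
    have := hl ⟨n, hn⟩
    rw [setOf_get_lt] at this
    have hstep := (ih (Nat.le_of_succ_le hn)).step this
    rw [← Algebra.adjoin_union] at hstep
    convert hstep using 2
    ext c
    simp only [Set.mem_union, Set.mem_ofPred_eq, Set.mem_singleton_iff]
    rw [List.take_succ_eq_append_getElem hn]
    simp only [List.mem_append, List.mem_singleton, List.get_eq_getElem]

end Lists

end Groth.Agent.H75.UH
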